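import Mathlib
import Cfsg.Agent.Lib.helper15.St2
import Cfsg.Agent.Lib.helper3.STC.Defs
import Cfsg.Agent.Lib.helper3.STC.Defs2
import Cfsg.Agent.Lib.helper3.STC.Defs3
import Cfsg.Agent.Lib.Lead.STD.Defs

/-!
# STM: abstract Steinberg systems of type `²D_l` (relative type `B_{l-1}`, minus type orthogonal groups): definitions.
Project family for S2099 (designer helper17): the Schur multiplier of `PΩ⁻_{2l}(q)` is cyclic of order `gcd(4, q^l + 1)`.

THIRD SIBLING of the lead's families `D_l` (STD / OMM / SPN / CED) and `B_m` (STB / OMB / SPB / CEB); this file is a PORT of `Cfsg/Agent/Lib/Lead/STB/Defs.lean`.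

The quadratic form is `Q(v) = Σ_i v (inl i) * v (inr i) + (z₁² + A z₁ z₂ + B z₂²)` on `(l ⊕ l) ⊕ Fin 2 → F` (`Cfsg.quadFormMinus`), the binary part anisotropic.
The anisotropic plane `W = F z₁ ⊕ F z₂` is the quadratic extension `Kq F A B = QuadraticAlgebra F (-B) A = F[ω]`, `ω² = A ω - B`, `u = u.re + u.im ω`, with the norm form
`nm u = u * star u = u.re² + A u.re u.im + B u.im²` and the polar form `trq (u * star v)` (`trq u = u + star u = 2 u.re + A u.im`).  EVERY characteristic (also `2`).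
* LONG roots `e_a - e_b` (`a ≠ b`, `a ≠ ng b`), root groups `x a b (t : F)`: the `SysD F ι G` of the lead's STD (matrix `TmL a b t`: `Td a b t` on `l ⊕ l`, the identity on `W`).
* SHORT roots `e_a`, root groups `xs a (u : Kq F A B)`: the Eichler transformation `TmS a u : v ↦ v + v_{-a} u - B(v, u) e_a - nm u * v_{-a} e_a`.
Relations (checked numerically on the matrices over `F_2, F_3, F_5`, `scratch17m/rel.py`, `mon.py` of helper17; NO index-dependent signs):
  `[xs a t, xs b u] = x a (ng b) (-(trq (t * star u)))`, `[x a b t, xs b u] = xs a (t • u) * x a (ng b) (t * nm u)`, `xs a` commutes with `x c d` unless `d = a` or `c = ng a`,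
  the short Weyl element `ws a t = xs a t * xs (ng a) (star t)⁻¹ * xs a t` is monomial: `e_a ↦ -(nm t)⁻¹ e_{-a}`, `e_{-a} ↦ -(nm t) e_a`, on `W` the reflection `u ↦ -(t / star t) * star u`;
  `cj (ws a t) (xs a u) = xs (ng a) (star (t⁻¹ ^ 2 * u))`.  So `X t = xs a t`, `Y t = xs (ng a) (-(star t))` is a rank one system `St (Kq F A B) G` of helper15 (`SysM.sts`):
  the short root `SL₂(q²) = Spin⁻₄(q)`.
-/

set_option autoImplicit false

namespace Cfsg.Agent.Lib.helper17.STM

open Cfsg.Agent.Lib.helper15.St2 Cfsg.Agent.Lib.helper3.STC Cfsg.Agent.Lib.Lead.STD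

/-! ## The quadratic extension -/

/-- the quadratic extension `F[ω]`, `ω² = A ω - B`; its norm form is `z₁² + A z₁ z₂ + B z₂²` -/
abbrev Kq (F : Type*) [Field F] (A B : F) := QuadraticAlgebra F (-B) A

/-- the norm `u * star u`, with values in `F` -/
def nm {F : Type*} [Field F] {A B : F} (u : Kq F A B) : F := QuadraticAlgebra.norm u

/-- the trace `u + star u`, with values in `F` -/
def trq {F : Type*} [Field F] {A B : F} (u : Kq F A B) : F := 2 * u.re + A * u.im

/-- the polar form of the norm form: `pq u v = trq (u * star v) = nm (u + v) - nm u - nm v` -/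
def pq {F : Type*} [Field F] {A B : F} (u v : Kq F A B) : F := trq (u * star v)

/-- the anisotropy of the binary form gives the hypothesis of Mathlib's field instance on `QuadraticAlgebra` -/
theorem fact_of_aniso {F : Type*} [Field F] {A B : F}
    (hab : ∀ z₁ z₂ : F, z₁ ^ 2 + A * z₁ * z₂ + B * z₂ ^ 2 = 0 → z₁ = 0 ∧ z₂ = 0) :
    Fact (∀ r : F, r ^ 2 ≠ -B + A * r) :=
  ⟨fun r h => by
    have h1 := (hab r (-1) (by rw [h]; ring)).2
    exact absurd h1 (by simp)⟩

/-- `tw ε` is the identity or the conjugation -/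
def tw {F : Type*} [Field F] {A B : F} (ε : Bool) (u : Kq F A B) : Kq F A B := if ε then star u else u

/-! ## The matrices -/

/-- the index type of the natural module: the signed indices, then the two coordinates of the anisotropic plane -/
abbrev Im (l : Type*) := (l ⊕ l) ⊕ Fin 2

/-- the coordinate `z₁` -/
abbrev iz1 {l : Type*} : Im l := Sum.inr 0

/-- the coordinate `z₂` -/
abbrev iz2 {l : Type*} : Im l := Sum.inr 1

/-- The long root element `1 + t E_{a,b} - t E_{-b,-a}` (`a ≠ b`, `a ≠ ng b`). -/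
def TmL {l : Type*} [DecidableEq l] {F : Type*} [Field F] (a b : l ⊕ l) (t : F) : Matrix (Im l) (Im l) F :=
  1 + Matrix.single (Sum.inl a) (Sum.inl b) t - Matrix.single (Sum.inl (ng b)) (Sum.inl (ng a)) t

/-- The short root element `v ↦ v + v_{-a} u - B(v, u) e_a - nm u * v_{-a} e_a`, `u = u.re z₁ + u.im z₂`, `B(z₁, u) = 2 u.re + A u.im`, `B(z₂, u) = A u.re + 2 B u.im`. -/
def TmS {l : Type*} [DecidableEq l] {F : Type*} [Field F] {A B : F} (a : l ⊕ l) (u : Kq F A B) : Matrix (Im l) (Im l) F :=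
  1 + Matrix.single iz1 (Sum.inl (ng a)) u.re + Matrix.single iz2 (Sum.inl (ng a)) u.im
    - Matrix.single (Sum.inl a) iz1 (2 * u.re + A * u.im) - Matrix.single (Sum.inl a) iz2 (A * u.re + 2 * B * u.im)
    - Matrix.single (Sum.inl a) (Sum.inl (ng a)) (nm u)

/-- The Gram matrix of the polar form of `Σ_i v (inl i) * v (inr i) + z₁² + A z₁ z₂ + B z₂²`. -/
def JM {l : Type*} [DecidableEq l] {F : Type*} [Field F] (A B : F) : Matrix (Im l) (Im l) F :=
  fun x y => match x, y with
    | Sum.inl c, Sum.inl d => if d = ng c then 1 else 0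
    | Sum.inr i, Sum.inr j => if i = 0 then (if j = 0 then 2 else A) else (if j = 0 then A else 2 * B)
    | _, _ => 0

/-- the quadratic form on vectors (`Cfsg.quadFormMinus` for `l = Fin m`) -/
def QM {l : Type*} [Fintype l] {F : Type*} [Field F] (A B : F) (v : Im l → F) : F :=
  (∑ i : l, v (Sum.inl (Sum.inl i)) * v (Sum.inl (Sum.inr i))) + (v iz1 ^ 2 + A * v iz1 * v iz2 + B * v iz2 ^ 2)

/-! ## The abstract systems -/

/-- An abstract Steinberg system of type `²D` on the index type `ι` in the group `G`: a system of type `D` over `F` (the long roots) together with the short root elements `xs a u`, `u : Kq F A B`. -/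
structure SysM (F : Type*) [Field F] (A B : F) [Fact (∀ r : F, r ^ 2 ≠ -B + A * r)] (ι : Type*) (G : Type*) [Group G] extends SysD F ι G where
  xs : ι ⊕ ι → Kq F A B → G
  adds : ∀ a t u, xs a t * xs a u = xs a (t + u)
  comm_ls : ∀ a c d, c ≠ d → c ≠ ng d → d ≠ a → c ≠ ng a → ∀ t u, xs a t * x c d u = x c d u * xs a t
  ls : ∀ a b, a ≠ b → a ≠ ng b → ∀ (t : F) (u : Kq F A B),
    x a b t * xs b u * (x a b t)⁻¹ * (xs b u)⁻¹ = xs a (t • u) * x a (ng b) (t * nm u)
  ss : ∀ a b, a ≠ b → a ≠ ng b → ∀ t u : Kq F A B,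
    xs a t * xs b u * (xs a t)⁻¹ * (xs b u)⁻¹ = x a (ng b) (-(pq t u))
  rels : ∀ a (t u : Kq F A B), t ≠ 0 → cj (xs a t * xs (ng a) (star t)⁻¹ * xs a t) (xs a u) = xs (ng a) (star (t⁻¹ ^ 2 * u))

namespace SysM

variable {F : Type*} [Field F] {A B : F} [Fact (∀ r : F, r ^ 2 ≠ -B + A * r)] {ι : Type*} {G : Type*} [Group G] (S : SysM F A B ι G)

/-- The long Weyl element `w_ab(t)` (that of the underlying `SysD`). -/
abbrev w (a b : ι ⊕ ι) (t : F) : G := S.toSysD.w a b t

/-- The long torus element `h_ab(t)` (that of the underlying `SysD`). -/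
abbrev h (a b : ι ⊕ ι) (t : F) : G := S.toSysD.h a b t

/-- The short Weyl element `ws a t = xs a t * xs (ng a) (star t)⁻¹ * xs a t`: `e_a ↦ -(nm t)⁻¹ e_{-a}`, `e_{-a} ↦ -(nm t) e_a`, `u ↦ -(t / star t) * star u` on `W`. -/
def ws (a : ι ⊕ ι) (t : Kq F A B) : G := S.xs a t * S.xs (ng a) (star t)⁻¹ * S.xs a t

/-- The short torus element `hs a t = ws a t * ws a (-1)`: `e_a ↦ nm t e_a`, `e_{-a} ↦ (nm t)⁻¹ e_{-a}`, `u ↦ (t / star t) * u` on `W`. -/
def hs (a : ι ⊕ ι) (t : Kq F A B) : G := S.ws a t * S.ws a (-1)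

/-- the spin relation: it kills the kernel of `Spin⁻_{2l} → Ω⁻_{2l}` -/
def Spin : Prop := ∀ a : ι ⊕ ι, S.hs a (-1) = 1

/-- `g` acts monomially on the root elements, with permutation `σ` of the signed indices (commuting with `ng`), coefficients `d` (`g e_k = d k • e_{σ k}`, `d k * d (ng k) = 1`),
and on the anisotropic plane by `u ↦ c0 * tw ε u`, `nm c0 = 1`. -/
def IsMon (g : G) (σ : Equiv.Perm (ι ⊕ ι)) (d : ι ⊕ ι → F) (c0 : Kq F A B) (ε : Bool) : Prop :=
  S.toSysD.IsMon g σ d ∧ (∀ k, σ (ng k) = ng (σ k)) ∧ (∀ k, d k * d (ng k) = 1) ∧ nm c0 = 1 ∧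
    ∀ k t, cj g (S.xs k t) = S.xs (σ k) (d k • (c0 * tw ε t))

/-- The subgroup generated by the long root subgroups `x a b` with `Q a b` and the short root subgroups `xs a` with `Qs a`. -/
def XQ (Q : ι ⊕ ι → ι ⊕ ι → Prop) (Qs : ι ⊕ ι → Prop) : Subgroup G :=
  Subgroup.closure ({g | ∃ a b t, a ≠ b ∧ a ≠ ng b ∧ Q a b ∧ g = S.x a b t} ∪ {g | ∃ a t, Qs a ∧ g = S.xs a t})

variable (o : ι ⊕ ι)

/-- The lower unipotent radical (abelian): generated by the `x a o` and `xs (ng o)` (the roots `e_a - e_o`, `-e_o`). -/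
def Yg : Subgroup G := S.XQ (fun _ b => b = o) (fun a => a = ng o)

/-- The subgroup fixing the basis vector `e_o`: the `x a b` with `b ≠ o`, `a ≠ ng o`, the `xs a` with `a ≠ ng o`. -/
def Pg : Subgroup G := S.XQ (fun a b => b ≠ o ∧ a ≠ ng o) (fun a => a ≠ ng o)

/-- The upper unipotent radical: generated by the `x o b` and `xs o`. -/
def Ag : Subgroup G := S.XQ (fun a _ => a = o) (fun a => a = o)

/-- The Levi factor (type `²D` on the other indices): the `x a b`, `xs a` with `a, b ∉ {o, -o}`. -/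
def Lg : Subgroup G := S.XQ (fun a b => (a ≠ o ∧ a ≠ ng o) ∧ (b ≠ o ∧ b ≠ ng o)) (fun a => a ≠ o ∧ a ≠ ng o)

/-- The torus part. -/
def Hg : Subgroup G :=
  Subgroup.closure ({g | ∃ b t, b ≠ o ∧ b ≠ ng o ∧ t ≠ 0 ∧ g = S.h o b t} ∪ {g | ∃ t, t ≠ 0 ∧ g = S.hs o t})

/-- The parabolic subgroup (the stabiliser of the line of `e_o`). -/
def Phat : Subgroup G := S.Pg o ⊔ S.Hg o

/-- The big cell. -/
def cell0 : Set G := {g | ∃ y ∈ S.Yg o, ∃ p ∈ S.Phat o, g = y * p}

/-- The cell attached to `k` (`k ≠ o`, `k ≠ ng o`). -/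
def cell (k : ι ⊕ ι) : Set G := {g | ∃ y ∈ S.Yg o, ∃ p ∈ S.Phat o, g = S.w o k 1 * y * p}

/-- The opposite cell (the Weyl element `ws o 1`). -/
def cellN : Set G := {g | ∃ y ∈ S.Yg o, ∃ p ∈ S.Phat o, g = S.ws o 1 * y * p}

/-- Membership in the union of the cells. -/
def InD (g : G) : Prop :=
  g ∈ S.cell0 o ∨ (∃ k, k ≠ o ∧ k ≠ ng o ∧ g ∈ S.cell o k) ∨ g ∈ S.cellN o

/-- The set of products `x * l * hs o c`. -/
def ALT : Set G := {g | ∃ x ∈ S.Ag o, ∃ l ∈ S.Lg o, ∃ c : Kq F A B, c ≠ 0 ∧ g = x * l * S.hs o c}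

/-- `n` lies in the parabolic subgroup `Phat o` and normalises `Yg o` -/
def NP (n : G) : Prop := n ∈ S.Phat o ∧ ∀ y ∈ S.Yg o, cj n y ∈ S.Yg o

/-- the long part of `Yg o`: generated by the `x a o` -/
def Ys : Subgroup G := S.XQ (fun _ b => b = o) (fun _ => False)

/-- `Yg o` without the root subgroup `x j o` (the short root subgroup `xs (ng o)` is still there) -/
def Yj (j : ι ⊕ ι) : Subgroup G := S.XQ (fun a b => b = o ∧ a ≠ j) (fun a => a = ng o)

/-- `Yg o` without the root subgroups `x o' o` and `x (ng o') o` -/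
def Yjj (o' : ι ⊕ ι) : Subgroup G := S.XQ (fun a b => b = o ∧ (a ≠ o' ∧ a ≠ ng o')) (fun a => a = ng o)

/-- the part of the long part of `Yg o` with first index in `T` -/
def YT (T : Set (ι ⊕ ι)) : Subgroup G := S.XQ (fun a b => b = o ∧ a ∈ T) (fun _ => False)

/-- The set of products `x * l * h o j c` (the normal form in the parabolic subgroup, rank at least two, up to the short torus: see the skeleton). -/
def ALTj (j : ι ⊕ ι) : Set G :=
  {g | ∃ x ∈ S.Ag o, ∃ l ∈ S.Lg o, ∃ c : F, c ≠ 0 ∧ g = x * l * S.h o j c}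

/-- A homomorphism to a general linear group sending the root elements to the elementary orthogonal matrices. -/
structure Rep (S : SysM F A B ι G) (l : Type*) [Fintype l] [DecidableEq l] where
  e : ι ↪ l
  φ : G →* Matrix.GeneralLinearGroup (Im l) F
  hφ : ∀ a b, a ≠ b → a ≠ ng b → ∀ t,
    ((φ (S.x a b t) : Matrix.GeneralLinearGroup (Im l) F) : Matrix (Im l) (Im l) F) = TmL (Em e a) (Em e b) t
  hφs : ∀ a u,
    ((φ (S.xs a u) : Matrix.GeneralLinearGroup (Im l) F) : Matrix (Im l) (Im l) F) = TmS (Em e a) u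

/-- the matrix of `g` in a representation -/
def Rep.M {S : SysM F A B ι G} {l : Type*} [Fintype l] [DecidableEq l] (R : S.Rep l) (g : G) : Matrix (Im l) (Im l) F :=
  ((R.φ g : Matrix.GeneralLinearGroup (Im l) F) : Matrix (Im l) (Im l) F)

end SysM

/-- coefficients of the short Weyl element `ws a u`: `e_a ↦ -(nm u)⁻¹ e_{-a}`, `e_{-a} ↦ -(nm u) e_a` -/
def dwb {F : Type*} [Field F] {A B : F} {ι : Type*} [DecidableEq ι] (a : ι ⊕ ι) (u : Kq F A B) : ι ⊕ ι → F := fun k =>
  if k = a then -(nm u)⁻¹ else if k = ng a then -(nm u) else 1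

/-- coefficients of the short torus element `hs a u`: `e_a ↦ nm u e_a`, `e_{-a} ↦ (nm u)⁻¹ e_{-a}` -/
def dhb {F : Type*} [Field F] {A B : F} {ι : Type*} [DecidableEq ι] (a : ι ⊕ ι) (u : Kq F A B) : ι ⊕ ι → F := fun k =>
  if k = a then nm u else if k = ng a then (nm u)⁻¹ else 1

/-- the permutation of the short Weyl element: `a ↔ ng a` -/
def swb {ι : Type*} [DecidableEq ι] (a : ι ⊕ ι) : Equiv.Perm (ι ⊕ ι) := Equiv.swap a (ng a)

end Cfsg.Agent.Lib.helper17.STM
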