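import Mathlib
import Cfsg.Agent.Lib.helper17.STM.Defs

/-!
# STM, definitions part 2: the calculus of the quadratic extension `Kq F A B` (`nm`, `trq`, `pq`, `star`, `tw`) and the rank one system `SysM.sts` of a short root.

All the lemmas on `Kq F A B` are proved by `QuadraticAlgebra.ext` and `ring`; rows may cite them freely (`kq_*`).
-/

set_option autoImplicit false
set_option linter.unusedSectionVars false
set_option linter.unnecessarySeqFocus false
set_option linter.unusedSimpArgs false

namespace Cfsg.Agent.Lib.helper17.STM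

open Cfsg.Agent.Lib.helper15.St2 Cfsg.Agent.Lib.helper3.STC Cfsg.Agent.Lib.Lead.STD

section ring

variable {F : Type*} [Field F] {A B : F}

theorem nm_def (u : Kq F A B) : nm u = u.re * u.re + A * u.re * u.im + B * u.im * u.im := by
  unfold nm
  rw [QuadraticAlgebra.norm_def]
  ring

theorem kq_algebraMap_nm (u : Kq F A B) : algebraMap F (Kq F A B) (nm u) = u * star u :=
  QuadraticAlgebra.algebraMap_norm_eq_mul_star u

theorem kq_algebraMap_trq (u : Kq F A B) : algebraMap F (Kq F A B) (trq u) = u + star u := by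
  ext <;> simp [trq, QuadraticAlgebra.algebraMap_eq] <;> ring

theorem kq_smul_def (t : F) (u : Kq F A B) : t • u = algebraMap F (Kq F A B) t * u := by
  rw [Algebra.smul_def]

theorem kq_star_smul (t : F) (u : Kq F A B) : star (t • u) = t • star u := by
  ext <;> simp <;> ring

theorem kq_star_algebraMap (t : F) : star (algebraMap F (Kq F A B) t) = algebraMap F (Kq F A B) t := by
  ext <;> simp [QuadraticAlgebra.algebraMap_eq]

theorem kq_algebraMap_injective : Function.Injective (algebraMap F (Kq F A B)) := by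
  intro s t h
  have := congrArg QuadraticAlgebra.re h
  simpa [QuadraticAlgebra.algebraMap_eq] using this

@[simp] theorem nm_zero : nm (0 : Kq F A B) = 0 := by simp [nm]
@[simp] theorem nm_one : nm (1 : Kq F A B) = 1 := by simp [nm]
theorem nm_mul (u v : Kq F A B) : nm (u * v) = nm u * nm v := by simp [nm]
@[simp] theorem nm_neg (u : Kq F A B) : nm (-u) = nm u := by simp [nm]
@[simp] theorem nm_star (u : Kq F A B) : nm (star u) = nm u := by simp [nm]
theorem nm_smul (t : F) (u : Kq F A B) : nm (t • u) = t ^ 2 * nm u := by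
  rw [nm_def, nm_def]; simp; ring
theorem nm_algebraMap (t : F) : nm (algebraMap F (Kq F A B) t) = t ^ 2 := by simp [nm]
theorem nm_neg_one : nm (-1 : Kq F A B) = 1 := by simp

@[simp] theorem trq_zero : trq (0 : Kq F A B) = 0 := by simp [trq]
theorem trq_add (u v : Kq F A B) : trq (u + v) = trq u + trq v := by simp [trq]; ring
theorem trq_neg (u : Kq F A B) : trq (-u) = -trq u := by simp [trq]; ring
theorem trq_sub (u v : Kq F A B) : trq (u - v) = trq u - trq v := by simp [trq]; ring
theorem trq_smul (t : F) (u : Kq F A B) : trq (t • u) = t * trq u := by simp [trq]; ring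
theorem trq_star (u : Kq F A B) : trq (star u) = trq u := by simp [trq]; ring
theorem trq_algebraMap (t : F) : trq (algebraMap F (Kq F A B) t) = 2 * t := by simp [trq, QuadraticAlgebra.algebraMap_eq]
theorem trq_one : trq (1 : Kq F A B) = 2 := by
  have h := trq_algebraMap (A := A) (B := B) (1 : F)
  rw [map_one, mul_one] at h
  exact h

theorem pq_def (u v : Kq F A B) : pq u v = 2 * u.re * v.re + A * (u.re * v.im + u.im * v.re) + 2 * B * u.im * v.im := by
  simp [pq, trq]; ring
theorem pq_symm (u v : Kq F A B) : pq u v = pq v u := by rw [pq_def, pq_def]; ring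
theorem pq_add_left (u u' v : Kq F A B) : pq (u + u') v = pq u v + pq u' v := by simp only [pq_def]; simp; ring
theorem pq_add_right (u v v' : Kq F A B) : pq u (v + v') = pq u v + pq u v' := by simp only [pq_def]; simp; ring
theorem pq_neg_left (u v : Kq F A B) : pq (-u) v = -pq u v := by simp only [pq_def]; simp; ring
theorem pq_neg_right (u v : Kq F A B) : pq u (-v) = -pq u v := by simp only [pq_def]; simp; ring
theorem pq_smul_left (t : F) (u v : Kq F A B) : pq (t • u) v = t * pq u v := by simp only [pq_def]; simp; ring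
theorem pq_smul_right (t : F) (u v : Kq F A B) : pq u (t • v) = t * pq u v := by simp only [pq_def]; simp; ring
@[simp] theorem pq_zero_left (v : Kq F A B) : pq 0 v = 0 := by simp [pq_def]
@[simp] theorem pq_zero_right (u : Kq F A B) : pq u 0 = 0 := by simp [pq_def]
theorem pq_self (u : Kq F A B) : pq u u = 2 * nm u := by rw [pq_def, nm_def]; ring
theorem pq_star_star (u v : Kq F A B) : pq (star u) (star v) = pq u v := by simp only [pq_def]; simp; ring
/-- `pq (c * u) (c * v) = nm c * pq u v` -/
theorem pq_mul_mul (c u v : Kq F A B) : pq (c * u) (c * v) = nm c * pq u v := by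
  simp only [pq_def, nm_def]; simp; ring
theorem nm_add (u v : Kq F A B) : nm (u + v) = nm u + nm v + pq u v := by
  simp only [pq_def, nm_def]; simp; ring
theorem nm_sub (u v : Kq F A B) : nm (u - v) = nm u + nm v - pq u v := by
  simp only [pq_def, nm_def]; simp; ring

theorem tw_true (u : Kq F A B) : tw true u = star u := rfl
theorem tw_false (u : Kq F A B) : tw false u = u := rfl
theorem tw_add (ε : Bool) (u v : Kq F A B) : tw ε (u + v) = tw ε u + tw ε v := by cases ε <;> simp [tw]
theorem tw_mul (ε : Bool) (u v : Kq F A B) : tw ε (u * v) = tw ε u * tw ε v := by cases ε <;> simp [tw, mul_comm]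
theorem tw_neg (ε : Bool) (u : Kq F A B) : tw ε (-u) = -tw ε u := by cases ε <;> simp [tw]
@[simp] theorem tw_zero (ε : Bool) : tw ε (0 : Kq F A B) = 0 := by cases ε <;> simp [tw]
@[simp] theorem tw_one (ε : Bool) : tw ε (1 : Kq F A B) = 1 := by cases ε <;> simp [tw]
theorem tw_smul (ε : Bool) (t : F) (u : Kq F A B) : tw ε (t • u) = t • tw ε u := by
  cases ε
  · rfl
  · exact kq_star_smul t u
theorem tw_tw (ε ε' : Bool) (u : Kq F A B) : tw ε (tw ε' u) = tw (xor ε ε') u := by
  cases ε <;> cases ε' <;> simp [tw]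
@[simp] theorem nm_tw (ε : Bool) (u : Kq F A B) : nm (tw ε u) = nm u := by cases ε <;> simp [tw]
theorem pq_tw_tw (ε : Bool) (u v : Kq F A B) : pq (tw ε u) (tw ε v) = pq u v := by
  cases ε
  · rfl
  · exact pq_star_star u v

end ring

section field

variable {F : Type*} [Field F] {A B : F} [Fact (∀ r : F, r ^ 2 ≠ -B + A * r)]

theorem nm_eq_zero {u : Kq F A B} : nm u = 0 ↔ u = 0 := QuadraticAlgebra.norm_eq_zero_iff_eq_zero

theorem nm_ne_zero {u : Kq F A B} (hu : u ≠ 0) : nm u ≠ 0 := fun h => hu (nm_eq_zero.1 h)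

theorem kq_star_ne_zero {u : Kq F A B} (hu : u ≠ 0) : star u ≠ 0 := fun h => hu (by simpa using congrArg star h)

theorem kq_inv_def (u : Kq F A B) : u⁻¹ = (nm u)⁻¹ • star u := QuadraticAlgebra.inv_def u

theorem kq_star_inv (u : Kq F A B) : star u⁻¹ = (star u)⁻¹ := star_inv₀ u

theorem nm_inv (u : Kq F A B) : nm u⁻¹ = (nm u)⁻¹ := by
  by_cases hu : u = 0
  · simp [hu]
  · have h := nm_mul u u⁻¹
    rw [mul_inv_cancel₀ hu, nm_one] at h
    exact (eq_inv_of_mul_eq_one_right h.symm)

theorem nm_div (u v : Kq F A B) : nm (u / v) = nm u / nm v := by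
  rw [div_eq_mul_inv, nm_mul, nm_inv, div_eq_mul_inv]

/-- `(star u)⁻¹ = (nm u)⁻¹ • u` -/
theorem kq_star_inv_eq (u : Kq F A B) : (star u)⁻¹ = (nm u)⁻¹ • u := by
  rw [kq_inv_def, nm_star, star_star]

theorem tw_inv (ε : Bool) (u : Kq F A B) : tw ε u⁻¹ = (tw ε u)⁻¹ := by
  cases ε
  · rfl
  · exact kq_star_inv u

/-- an element of norm one fixed by the conjugation is `± 1`; more generally `u = star u` means `u ∈ F` -/
theorem kq_eq_algebraMap_of_star_eq {u : Kq F A B} (h : star u = u) (h2 : (2 : F) ≠ 0 ∨ A ≠ 0) : ∃ t : F, u = algebraMap F (Kq F A B) t := by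
  have him : u.im = 0 := by
    have h1 := congrArg QuadraticAlgebra.im h
    have h0 := congrArg QuadraticAlgebra.re h
    simp at h1 h0
    rcases h2 with h2 | h2
    · have : (2 : F) * u.im = 0 := by linear_combination -h1
      rcases mul_eq_zero.1 this with h3 | h3
      · exact absurd h3 h2
      · exact h3
    · rcases h0 with h0 | h0
      · exact absurd h0 h2
      · exact h0
  exact ⟨u.re, by ext <;> simp [QuadraticAlgebra.algebraMap_eq, him]⟩

namespace SysM

variable {ι : Type*} {G : Type*} [Group G] (S : SysM F A B ι G)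

/-- The rank one system attached to a short root: `X t = xs a t`, `Y t = xs (ng a) (-(star t))`: the group `SL₂(Kq F A B)`. -/
def sts (a : ι ⊕ ι) : St (Kq F A B) G where
  X e t := if e then S.xs a t else S.xs (ng a) (-(star t))
  add e t u := by
    cases e
    · show S.xs (ng a) (-(star t)) * S.xs (ng a) (-(star u)) = S.xs (ng a) (-(star (t + u)))
      rw [S.adds, star_add, neg_add]
    · exact S.adds a t u
  rel e t u ht := by
    have hn : ng (ng a) = a := by cases a <;> rfl
    cases e
    · show cj (S.xs (ng a) (-(star t)) * S.xs a (-t⁻¹) * S.xs (ng a) (-(star t))) (S.xs (ng a) (-(star u))) = S.xs a (-(t⁻¹ ^ 2 * u))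
      have hst : star t ≠ 0 := kq_star_ne_zero ht
      have h := S.rels (ng a) (-(star t)) (-(star u)) (neg_ne_zero.2 hst)
      rw [hn] at h
      have e1 : (star (-(star t)))⁻¹ = -t⁻¹ := by rw [star_neg, star_star, inv_neg]
      rw [e1] at h
      rw [h]
      congr 1
      rw [star_mul', star_pow, kq_star_inv, star_neg, star_star, star_neg, star_star]
      field_simp
    · show cj (S.xs a t * S.xs (ng a) (-(star (-t⁻¹))) * S.xs a t) (S.xs a u) = S.xs (ng a) (-(star (-(t⁻¹ ^ 2 * u))))
      have e1 : -(star (-t⁻¹)) = (star t)⁻¹ := by rw [star_neg, neg_neg, kq_star_inv]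
      have e2 : -(star (-(t⁻¹ ^ 2 * u))) = star (t⁻¹ ^ 2 * u) := by rw [star_neg, neg_neg]
      rw [e1, e2]
      exact S.rels a t u ht

end SysM

end field

end Cfsg.Agent.Lib.helper17.STM
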