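import Mathlib
import Cfsg.Agent.Lib.helper17.STM.Defs
import Cfsg.Agent.Lib.helper17.STM.Defs2
import Cfsg.Agent.Lib.Lead.SPN.Defs

/-!
# STM, definitions part 3: functoriality of `SysM` (`SysM.map`, `SysM.prod`, `SysM.restrict`; port of `Lead/STB/Defs2.lean`), finiteness of `Kq F A B`, and the vectors of the natural module
`Im l → F` (`evm c`, `Ebm e a`, and the vector `ew z` of the anisotropic plane attached to `z : Kq F A B`; port of `Lead/STB/Defs4.lean`).
-/

set_option autoImplicit false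

namespace Cfsg.Agent.Lib.helper17.STM

open Cfsg.Agent.Lib.helper15.St2 Cfsg.Agent.Lib.helper3.STC Cfsg.Agent.Lib.Lead.STD Cfsg.Agent.Lib.Lead.SPN

/-- the quadratic extension of a finite field is finite -/
instance kq_finite {F : Type*} [Field F] [Finite F] {A B : F} : Finite (Kq F A B) :=
  Finite.of_equiv _ (QuadraticAlgebra.equivProd (-B) A).symm

section functor

variable {F : Type*} [Field F] {A B : F} [Fact (∀ r : F, r ^ 2 ≠ -B + A * r)] {ι : Type*} {G : Type*} [Group G] {H : Type*} [Group H]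

/-- the image of a `SysM` under a homomorphism -/
def SysM.map (S : SysM F A B ι G) (f : G →* H) : SysM F A B ι H where
  toSysD := S.toSysD.map f
  xs a t := f (S.xs a t)
  adds a t u := by rw [← map_mul, S.adds]
  comm_ls a c d h1 h2 h3 h4 t u := by
    show f (S.xs a t) * f (S.x c d u) = f (S.x c d u) * f (S.xs a t)
    rw [← map_mul, ← map_mul, S.comm_ls a c d h1 h2 h3 h4]
  ls a b hab hab' t u := by
    show f (S.x a b t) * f (S.xs b u) * (f (S.x a b t))⁻¹ * (f (S.xs b u))⁻¹ = f (S.xs a (t • u)) * f (S.x a (ng b) (t * nm u))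
    rw [← map_inv, ← map_inv, ← map_mul, ← map_mul, ← map_mul, ← map_mul, S.ls a b hab hab']
  ss a b hab hab' t u := by
    show f (S.xs a t) * f (S.xs b u) * (f (S.xs a t))⁻¹ * (f (S.xs b u))⁻¹ = f (S.x a (ng b) (-(pq t u)))
    rw [← map_inv, ← map_inv, ← map_mul, ← map_mul, ← map_mul, S.ss a b hab hab']
  rels a t u ht := by
    rw [← map_mul, ← map_mul, ← map_cj, S.rels a t u ht]

theorem SysM.map_x (S : SysM F A B ι G) (f : G →* H) (a b : ι ⊕ ι) (t : F) : (S.map f).x a b t = f (S.x a b t) := rfl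

theorem SysM.map_xs (S : SysM F A B ι G) (f : G →* H) (a : ι ⊕ ι) (t : Kq F A B) : (S.map f).xs a t = f (S.xs a t) := rfl

theorem SysM.map_toSysD (S : SysM F A B ι G) (f : G →* H) : (S.map f).toSysD = S.toSysD.map f := rfl

theorem SysM.map_w (S : SysM F A B ι G) (f : G →* H) (a b : ι ⊕ ι) (t : F) : (S.map f).w a b t = f (S.w a b t) :=
  SysD.map_w S.toSysD f a b t

theorem SysM.map_h (S : SysM F A B ι G) (f : G →* H) (a b : ι ⊕ ι) (t : F) : (S.map f).h a b t = f (S.h a b t) :=
  SysD.map_h S.toSysD f a b t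

theorem SysM.map_ws (S : SysM F A B ι G) (f : G →* H) (a : ι ⊕ ι) (t : Kq F A B) : (S.map f).ws a t = f (S.ws a t) := by
  unfold SysM.ws
  rw [map_mul, map_mul]
  rfl

theorem SysM.map_hs (S : SysM F A B ι G) (f : G →* H) (a : ι ⊕ ι) (t : Kq F A B) : (S.map f).hs a t = f (S.hs a t) := by
  unfold SysM.hs
  rw [map_mul, SysM.map_ws, SysM.map_ws]

/-- the product of two `SysM` -/
def SysM.prod (S : SysM F A B ι G) (T : SysM F A B ι H) : SysM F A B ι (G × H) where
  toSysD := S.toSysD.prod T.toSysD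
  xs a t := (S.xs a t, T.xs a t)
  adds a t u := by rw [Prod.mk_mul_mk, S.adds, T.adds]
  comm_ls a c d h1 h2 h3 h4 t u := by
    show (S.xs a t, T.xs a t) * (S.x c d u, T.x c d u) = (S.x c d u, T.x c d u) * (S.xs a t, T.xs a t)
    rw [Prod.mk_mul_mk, Prod.mk_mul_mk, S.comm_ls a c d h1 h2 h3 h4, T.comm_ls a c d h1 h2 h3 h4]
  ls a b hab hab' t u := by
    show (S.x a b t, T.x a b t) * (S.xs b u, T.xs b u) * (S.x a b t, T.x a b t)⁻¹ * (S.xs b u, T.xs b u)⁻¹ =
      (S.xs a (t • u), T.xs a (t • u)) * (S.x a (ng b) (t * nm u), T.x a (ng b) (t * nm u))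
    rw [Prod.inv_mk, Prod.inv_mk, Prod.mk_mul_mk, Prod.mk_mul_mk, Prod.mk_mul_mk, Prod.mk_mul_mk, S.ls a b hab hab', T.ls a b hab hab']
  ss a b hab hab' t u := by
    show (S.xs a t, T.xs a t) * (S.xs b u, T.xs b u) * (S.xs a t, T.xs a t)⁻¹ * (S.xs b u, T.xs b u)⁻¹ =
      (S.x a (ng b) (-(pq t u)), T.x a (ng b) (-(pq t u)))
    rw [Prod.inv_mk, Prod.inv_mk, Prod.mk_mul_mk, Prod.mk_mul_mk, Prod.mk_mul_mk, S.ss a b hab hab', T.ss a b hab hab']
  rels a t u ht := by
    have h1 := S.rels a t u ht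
    have h2 := T.rels a t u ht
    unfold cj at h1 h2 ⊢
    simp only [Prod.mk_mul_mk, Prod.inv_mk]
    rw [h1, h2]

theorem SysM.prod_x (S : SysM F A B ι G) (T : SysM F A B ι H) (a b : ι ⊕ ι) (t : F) : (S.prod T).x a b t = (S.x a b t, T.x a b t) := rfl

theorem SysM.prod_xs (S : SysM F A B ι G) (T : SysM F A B ι H) (a : ι ⊕ ι) (t : Kq F A B) : (S.prod T).xs a t = (S.xs a t, T.xs a t) := rfl

/-- the restriction of a `SysM` to a subgroup containing the root elements -/
def SysM.restrict (S : SysM F A B ι G) (L : Subgroup G) (hL : ∀ a b t, S.x a b t ∈ L) (hLs : ∀ a t, S.xs a t ∈ L) : SysM F A B ι L where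
  toSysD := S.toSysD.restrict L hL
  xs a t := ⟨S.xs a t, hLs a t⟩
  adds a t u := Subtype.ext (S.adds a t u)
  comm_ls a c d h1 h2 h3 h4 t u := Subtype.ext (S.comm_ls a c d h1 h2 h3 h4 t u)
  ls a b hab hab' t u := Subtype.ext (S.ls a b hab hab' t u)
  ss a b hab hab' t u := Subtype.ext (S.ss a b hab hab' t u)
  rels a t u ht := Subtype.ext (S.rels a t u ht)

theorem SysM.restrict_x (S : SysM F A B ι G) (L : Subgroup G) (hL : ∀ a b t, S.x a b t ∈ L) (hLs : ∀ a t, S.xs a t ∈ L) (a b : ι ⊕ ι) (t : F) :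
    (((S.restrict L hL hLs).x a b t : L) : G) = S.x a b t := rfl

theorem SysM.restrict_xs (S : SysM F A B ι G) (L : Subgroup G) (hL : ∀ a b t, S.x a b t ∈ L) (hLs : ∀ a t, S.xs a t ∈ L) (a : ι ⊕ ι) (t : Kq F A B) :
    (((S.restrict L hL hLs).xs a t : L) : G) = S.xs a t := rfl

end functor

/-! ## vectors of the natural module -/

/-- the basis vector of an index of the natural module -/
def evm {l : Type*} [DecidableEq l] {F : Type*} [Field F] (c : Im l) : Im l → F := Pi.single c 1

/-- the index of the natural module attached to a signed index of the system -/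
abbrev Ebm {ι l : Type*} (e : ι ↪ l) (a : ι ⊕ ι) : Im l := Sum.inl (Em e a)

/-- the vector `z.re z₁ + z.im z₂` of the anisotropic plane -/
def ew {l : Type*} {F : Type*} [Field F] {A B : F} (z : Kq F A B) : Im l → F := fun c =>
  match c with
  | Sum.inl _ => 0
  | Sum.inr i => if i = 0 then z.re else z.im

section ew

variable {l : Type*} {F : Type*} [Field F] {A B : F}

theorem ew_inl (z : Kq F A B) (a : l ⊕ l) : ew (l := l) z (Sum.inl a) = 0 := rfl

theorem ew_iz1 (z : Kq F A B) : ew (l := l) z iz1 = z.re := rfl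

theorem ew_iz2 (z : Kq F A B) : ew (l := l) z iz2 = z.im := rfl

theorem ew_add (z z' : Kq F A B) : ew (l := l) (z + z') = ew z + ew z' := by
  funext c
  rcases c with a | i
  · simp [ew]
  · fin_cases i <;> simp [ew]

theorem ew_smul (t : F) (z : Kq F A B) : ew (l := l) (t • z) = t • ew z := by
  funext c
  rcases c with a | i
  · simp [ew]
  · fin_cases i <;> simp [ew]

theorem ew_zero : ew (l := l) (0 : Kq F A B) = 0 := by
  funext c
  rcases c with a | i
  · simp [ew]
  · fin_cases i <;> simp [ew]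

theorem ew_neg (z : Kq F A B) : ew (l := l) (-z) = -ew z := by
  funext c
  rcases c with a | i
  · simp [ew]
  · fin_cases i <;> simp [ew]

theorem ew_injective : Function.Injective (ew (l := l) (F := F) (A := A) (B := B)) := by
  intro z z' h
  have h1 := congrFun h iz1
  have h2 := congrFun h iz2
  rw [ew_iz1, ew_iz1] at h1
  rw [ew_iz2, ew_iz2] at h2
  exact QuadraticAlgebra.ext h1 h2

theorem ew_one [DecidableEq l] : ew (l := l) (1 : Kq F A B) = evm iz1 := by
  funext c
  rcases c with a | i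
  · simp [ew, evm]
  · fin_cases i
    · show (if (0 : Fin 2) = 0 then (1 : Kq F A B).re else (1 : Kq F A B).im) = (Pi.single iz1 1 : Im l → F) iz1
      rw [if_pos rfl, Pi.single_eq_same]
      rfl
    · show (if (1 : Fin 2) = 0 then (1 : Kq F A B).re else (1 : Kq F A B).im) = (Pi.single iz1 1 : Im l → F) iz2
      rw [if_neg (by decide), Pi.single_apply, if_neg (by simp)]
      rfl

/-- `ω = ⟨0, 1⟩` is the second basis vector of the plane -/
theorem ew_omega [DecidableEq l] : ew (l := l) (⟨0, 1⟩ : Kq F A B) = evm iz2 := by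
  funext c
  rcases c with a | i
  · simp [ew, evm]
  · fin_cases i <;> simp [ew, evm]

theorem ew_eq (z : Kq F A B) [DecidableEq l] : ew (l := l) z = z.re • evm iz1 + z.im • evm iz2 := by
  funext c
  rcases c with a | i
  · simp [ew, evm]
  · fin_cases i <;> simp [ew, evm]

end ew

end Cfsg.Agent.Lib.helper17.STM
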